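import Cfsg.Agent.H1.K3.Core
import Cfsg.Agent.Lib.AutSL2Out

/-!
# `SL₂(25) < 2.Suz < Sp₁₂(3)`: the normaliser (helper1)

* `exists_sigma` : an element normalising a 12-dimensional `SL₂(25)` induces a field automorphism modulo inner ones;
* `out_two` : the normaliser modulo `P ⊔ scalars` has at most two elements;
* `gt_norm` : the explicit field automorphism.
-/

set_option autoImplicit false
set_option linter.style.haveILetI false

namespace Cfsg.Agent.H1.K3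

open Matrix Cfsg Cfsg.Geo
open Cfsg.Agent.H915.LD (Core Soc toSoc toSoc_surjective tr tr_conj tr_mul_comm)
open Cfsg.Agent.H920.Sz12 (I12 toM)
open Cfsg.Agent.Lib.SL2Lift (X hom_X hom_W hom_H hom_mem)
open Cfsg.Agent.Lib.SL2Mat

local notation "S25" => SpecialLinearGroup (Fin 2) K25

/-- a finite group is normalised by an element which conjugates it into itself -/
noncomputable def conjAut {G : Type*} [Group G] (P : Subgroup G) [Finite P] (a : G) (ha : ∀ x ∈ P, a * x * a⁻¹ ∈ P) :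
    MulAut P :=
  MulEquiv.ofBijective
    ({ toFun := fun x => ⟨a * x * a⁻¹, ha x x.2⟩
       map_one' := Subtype.ext (by simp)
       map_mul' := fun x y => Subtype.ext (by simp [mul_assoc]) } : P →* P)
    (Finite.injective_iff_bijective.1 (fun x y h => by
      have h1 := congrArg Subtype.val h
      apply Subtype.ext
      simpa using h1))

theorem conjAut_coe {G : Type*} [Group G] (P : Subgroup G) [Finite P] (a : G) (ha : ∀ x ∈ P, a * x * a⁻¹ ∈ P) (x : P) :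
    ((conjAut P a ha x : P) : G) = a * x * a⁻¹ := rfl

section gl2

variable {K : Type*} [Field K]

/-- the diagonal matrix `(d, 1)` -/
def dg2 (d : K) (hd : d ≠ 0) : GL (Fin 2) K :=
  ⟨!![d, 0; 0, 1], !![d⁻¹, 0; 0, 1], by
    refine Matrix.ext fun i j => ?_
    fin_cases i <;> fin_cases j <;> simp [Matrix.mul_apply, Fin.sum_univ_two, hd], by
    refine Matrix.ext fun i j => ?_
    fin_cases i <;> fin_cases j <;> simp [Matrix.mul_apply, Fin.sum_univ_two, hd]⟩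

theorem conjGL_dg2 (d : K) (hd : d ≠ 0) (t : K) : conjGL (dg2 d hd) (X t) = X (d * t) := by
  apply Subtype.ext
  rw [conjGL_val]
  show (!![d, 0; 0, 1] : Matrix (Fin 2) (Fin 2) K) * (!![1, t; 0, 1] : Matrix (Fin 2) (Fin 2) K) *
    (!![d⁻¹, 0; 0, 1] : Matrix (Fin 2) (Fin 2) K) = (!![1, d * t; 0, 1] : Matrix (Fin 2) (Fin 2) K)
  refine Matrix.ext fun i j => ?_
  fin_cases i <;> fin_cases j <;> simp [Matrix.mul_apply, Fin.sum_univ_two, hd]

/-- conjugation of transvections -/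
theorem conjGL_X (g : GL (Fin 2) K) : ∃ s : SpecialLinearGroup (Fin 2) K, conjGL g (X 1) = s * X g.1.det * s⁻¹ := by
  have hd : g.1.det ≠ 0 := by
    have h := g.isUnit
    rw [Matrix.isUnit_iff_isUnit_det] at h
    exact h.ne_zero
  have h1 : (g * (dg2 g.1.det hd)⁻¹).1.det = 1 ^ 2 := by
    have h2 : (dg2 g.1.det hd).1.det = g.1.det := by
      show (!![g.1.det, 0; 0, 1] : Matrix (Fin 2) (Fin 2) K).det = _
      rw [det_fin_two_of]
      ring
    have h3 : (g * (dg2 g.1.det hd)⁻¹).1.det * (dg2 g.1.det hd).1.det = g.1.det := by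
      rw [← det_mul, ← Units.val_mul, inv_mul_cancel_right]
    rw [h2] at h3
    rw [one_pow]
    exact mul_right_cancel₀ hd (by rw [h3, one_mul])
  obtain ⟨s, hs⟩ := Cfsg.Agent.Lib.AutSL2Out.conjGL_of_det_sq (g * (dg2 g.1.det hd)⁻¹) 1 one_ne_zero h1
  refine ⟨s, ?_⟩
  have h4 : conjGL g (X 1) = conjGL (g * (dg2 g.1.det hd)⁻¹) (conjGL (dg2 g.1.det hd) (X 1)) := by
    rw [← MulAut.mul_apply, ← map_mul, inv_mul_cancel_right]
  rw [h4, conjGL_dg2, hs, mul_one]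

end gl2

/-! ### automorphisms of the field -/

theorem ringEquiv_natCast (σ : K25 ≃+* K25) (a : ZMod 5) : σ ⟨a, 0⟩ = ⟨a, 0⟩ := by
  have h : (⟨a, 0⟩ : K25) = ((a.val : ℕ) : K25) := by
    ext
    · rw [QuadraticAlgebra.re_natCast, ZMod.natCast_zmod_val]
    · rw [QuadraticAlgebra.im_natCast]
  rw [h, map_natCast]

theorem om_sq : om ^ 2 = om + 3 := by
  unfold om
  ext <;> simp [sq] <;> decide

theorem sigma_om (σ : K25 ≃+* K25) : σ om = om ∨ σ om = 1 - om := by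
  have h1 : σ om ^ 2 = σ om + 3 := by rw [← map_pow, om_sq, map_add, map_ofNat]
  have h2 : (σ om - om) * (σ om - (1 - om)) = 0 := by
    linear_combination h1 - om_sq
  rcases mul_eq_zero.1 h2 with h | h
  · left; exact sub_eq_zero.1 h
  · right; exact sub_eq_zero.1 h

theorem decomp (t : K25) : t = ⟨t.re, 0⟩ + ⟨t.im, 0⟩ * om := by
  unfold om
  ext <;> simp

theorem sigma_eq {σ τ : K25 ≃+* K25} (h : σ om = τ om) : σ = τ := by
  ext1 t
  rw [decomp t, map_add, map_add, map_mul, map_mul, h, ringEquiv_natCast, ringEquiv_natCast, ringEquiv_natCast,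
    ringEquiv_natCast]

theorem sigma_mul {σ τ : K25 ≃+* K25} (hσ : σ ≠ 1) (hτ : τ ≠ 1) : σ * τ = 1 := by
  have h1 : σ om = 1 - om := (sigma_om σ).resolve_left fun h => hσ (sigma_eq h)
  have h2 : τ om = 1 - om := (sigma_om τ).resolve_left fun h => hτ (sigma_eq h)
  apply sigma_eq
  show σ (τ om) = om
  rw [h2, map_sub, map_one, h1]
  ring

/-! ### the normaliser -/

section norm

variable {F : Type*} [Field F] {ρ : S25 →* GL I12 F}

theorem tr_X_sq (d : K25) (hd : d ≠ 0) (t : K25) : tr (ρ (X (d ^ 2 * t))) = tr (ρ (X t)) := by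
  have h1 : (Cfsg.Agent.Lib.SL2Lift.H d hd : S25) * X t * (Cfsg.Agent.Lib.SL2Lift.H d hd)⁻¹ = X (d ^ 2 * t) := by
    rw [mul_inv_eq_iff_eq_mul]
    apply Subtype.ext
    show (!![d, 0; 0, d⁻¹] : Matrix (Fin 2) (Fin 2) K25) * (!![1, t; 0, 1] : Matrix (Fin 2) (Fin 2) K25) =
      (!![1, d ^ 2 * t; 0, 1] : Matrix (Fin 2) (Fin 2) K25) * (!![d, 0; 0, d⁻¹] : Matrix (Fin 2) (Fin 2) K25)
    refine Matrix.ext fun i j => ?_
    fin_cases i <;> fin_cases j <;> simp [Matrix.mul_apply, Fin.sum_univ_two]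
    field_simp
  rw [← h1, map_mul, map_mul, map_inv, tr_conj]

theorem sq_or (d : K25) (hd : d ≠ 0) : ∃ c : K25, c ≠ 0 ∧ (d = c ^ 2 ∨ d = c ^ 2 * om) := by
  have h := om_lg hd
  rcases Nat.even_or_odd' (lg d) with ⟨k, hk | hk⟩
  · refine ⟨om ^ k, pow_ne_zero _ om_ne, Or.inl ?_⟩
    rw [← pow_mul, mul_comm k 2, ← hk, h]
  · refine ⟨om ^ k, pow_ne_zero _ om_ne, Or.inr ?_⟩
    rw [← pow_mul, mul_comm k 2, ← pow_succ, ← hk, h]

theorem exists_sigma [Finite F] (hk : ρ.ker ≤ Subgroup.center S25) (ht : tr (ρ (X 1)) ≠ tr (ρ (X om))) {a : GL I12 F}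
    (ha : ∀ x ∈ ρ.range, a * x * a⁻¹ ∈ ρ.range) :
    ∃ (s : S25) (σ : K25 ≃+* K25), ∀ x : S25, a * ρ x * a⁻¹ = ρ (s * fieldAut σ x * s⁻¹) := by
  obtain ⟨g, σ, h⟩ := Cfsg.Agent.Lib.AutSL2.exists_gl_ringEquiv ρ.rangeRestrict ρ.rangeRestrict_surjective
    (by rw [MonoidHom.ker_rangeRestrict]; exact hk) (conjAut ρ.range a ha)
  have h' : ∀ x : S25, a * ρ x * a⁻¹ = ρ (conjGL g (fieldAut σ x)) := fun x => congrArg Subtype.val (h x)
  have hdet : ∃ c : K25, c ≠ 0 ∧ g.1.det = c ^ 2 := by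
    have hd : g.1.det ≠ 0 := by
      have h := g.isUnit
      rw [Matrix.isUnit_iff_isUnit_det] at h
      exact h.ne_zero
    obtain ⟨c, hc, h1 | h1⟩ := sq_or _ hd
    · exact ⟨c, hc, h1⟩
    · exfalso
      apply ht
      have h2 : fieldAut σ (X 1) = X 1 := by
        apply Subtype.ext
        refine Matrix.ext fun i j => ?_
        show σ ((!![1, 1; 0, 1] : Matrix (Fin 2) (Fin 2) K25) i j) = (!![1, 1; 0, 1] : Matrix (Fin 2) (Fin 2) K25) i j
        fin_cases i <;> fin_cases j <;> simp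
      obtain ⟨s, hs⟩ := conjGL_X g
      have h3 := h' (X 1)
      rw [h2, hs, h1, map_mul, map_mul, map_inv] at h3
      have h4 := congrArg tr h3
      rw [tr_conj, tr_conj, tr_X_sq c hc] at h4
      exact h4
  obtain ⟨c, hc, hd⟩ := hdet
  obtain ⟨s, hs⟩ := Cfsg.Agent.Lib.AutSL2Out.conjGL_of_det_sq g c hc hd
  exact ⟨s, σ, fun x => by rw [h', hs]⟩

theorem mem_sup_of_comm (hirr : ActsAbsolutelyIrreducibly (matrixSet ρ.range)) {a : GL I12 F}
    {s : S25} (h : ∀ x : S25, a * ρ x * a⁻¹ = ρ (s * x * s⁻¹)) : a ∈ ρ.range ⊔ scalars I12 F := by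
  set b : GL I12 F := (ρ s)⁻¹ * a with hb
  have h1 : ∀ x ∈ ρ.range, b * x = x * b := by
    rintro _ ⟨x, rfl⟩
    have h2 := h x
    rw [map_mul, map_mul, map_inv] at h2
    have h3 : a * ρ x = ρ s * ρ x * (ρ s)⁻¹ * a := by rw [← h2]; group
    rw [hb, mul_assoc, h3]
    group
  obtain ⟨c, hc⟩ := hirr.2 (b : Matrix I12 I12 F) (by
    rintro _ ⟨x, hx, rfl⟩
    exact congrArg Units.val (h1 x hx))
  have hc0 : c ≠ 0 := by
    rintro rfl
    rw [zero_smul] at hc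
    exact b.ne_zero hc
  have hb' : b ∈ scalars I12 F := by
    refine ⟨Units.mk0 c hc0, ?_⟩
    apply Units.ext
    rw [hc]
    refine Matrix.ext fun i j => ?_
    show (Matrix.scalar I12 c) i j = (c • (1 : Matrix I12 I12 F)) i j
    rw [Matrix.scalar_apply, Matrix.smul_apply, Matrix.diagonal_apply, Matrix.one_apply, smul_eq_mul, mul_ite, mul_one,
      mul_zero]
  have h3 : a = ρ s * b := by rw [hb, mul_inv_cancel_left]
  rw [h3]
  exact Subgroup.mul_mem_sup ⟨s, rfl⟩ hb'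

theorem out_two [Finite F] (hirr : ActsAbsolutelyIrreducibly (matrixSet ρ.range)) (hk : ρ.ker ≤ Subgroup.center S25)
    (ht : tr (ρ (X 1)) ≠ tr (ρ (X om))) {a b : GL I12 F} (ha : ∀ x ∈ ρ.range, a * x * a⁻¹ ∈ ρ.range)
    (hb : ∀ x ∈ ρ.range, b * x * b⁻¹ ∈ ρ.range) (ha' : a ∉ ρ.range ⊔ scalars I12 F)
    (hb' : b ∉ ρ.range ⊔ scalars I12 F) : a * b ∈ ρ.range ⊔ scalars I12 F := by
  obtain ⟨s, σ, hs⟩ := exists_sigma hk ht ha
  obtain ⟨s', τ, hs'⟩ := exists_sigma hk ht hb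
  have h1 : σ ≠ 1 := by
    rintro rfl
    exact ha' (mem_sup_of_comm hirr (s := s) (fun x => by rw [hs, map_one, MulAut.one_apply]))
  have h2 : τ ≠ 1 := by
    rintro rfl
    exact hb' (mem_sup_of_comm hirr (s := s') (fun x => by rw [hs', map_one, MulAut.one_apply]))
  refine mem_sup_of_comm hirr (s := s * fieldAut σ s') (fun x => ?_)
  have h3 : a * b * ρ x * (a * b)⁻¹ = a * (b * ρ x * b⁻¹) * a⁻¹ := by group
  have h4 : fieldAut σ (fieldAut τ x) = x := by
    rw [← MulAut.mul_apply, ← map_mul, sigma_mul h1 h2, map_one, MulAut.one_apply]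
  have h5 : fieldAut σ (s' * fieldAut τ x * s'⁻¹) = fieldAut σ s' * x * (fieldAut σ s')⁻¹ := by
    rw [map_mul, map_mul, map_inv, h4]
  have h6 : s * (fieldAut σ s' * x * (fieldAut σ s')⁻¹) * s⁻¹ =
      (s * fieldAut σ s') * x * (s * fieldAut σ s')⁻¹ := by
    rw [_root_.mul_inv_rev]
    simp only [mul_assoc]
  rw [h3, hs', hs, h5, h6]

end norm

/-! ### the explicit field automorphism -/

theorem chk_t : (Cfsg.Agent.H920.Sz12.eqB N1 1 [5, 0] [0, 5] && Cfsg.Agent.H920.Sz12.eqB N1 1 [5, 1] [0, 1, 1, 1, 1, 5] &&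
    Cfsg.Agent.H920.Sz12.eqB N1 1 [5, 2] [2, 2, 2, 2, 2, 5] && Cfsg.Agent.H920.Sz12.eqB N1 1 [5, 3] [3, 5]) = true := by
  decide +kernel

theorem gt_norm {x : GL I12 (ZMod 3)} (hx : x ∈ Q0) : gt * x * gt⁻¹ ∈ Q0 := by
  have h := chk_t
  simp only [Bool.and_eq_true] at h
  obtain ⟨⟨⟨h1, h2⟩, h3⟩, h4⟩ := h
  have e1 : gt * gx * gt⁻¹ = gx := by
    have := eqL h1
    rw [mul_inv_eq_iff_eq_mul]
    simpa [Lt] using this
  have e2 : gt * gz * gt⁻¹ = gx * gz * gz * gz * gz := by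
    have := eqL h2
    rw [mul_inv_eq_iff_eq_mul]
    simpa [Lt, mul_assoc] using this
  have e3 : gt * gh * gt⁻¹ = gh * gh * gh * gh * gh := by
    have := eqL h3
    rw [mul_inv_eq_iff_eq_mul]
    simpa [Lt, mul_assoc] using this
  have e4 : gt * gw * gt⁻¹ = gw := by
    have := eqL h4
    rw [mul_inv_eq_iff_eq_mul]
    simpa [Lt] using this
  have hz : gz ∈ Q0 := ⟨X om, by rw [rep_X, xe_om]⟩
  obtain ⟨g, rfl⟩ := hx
  have key := hom_mem rel (Q0.comap (MulAut.conj gt).toMonoidHom) (fun t => ?_) (fun a _ => ?_) ?_ g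
  · exact key
  · show MulAut.conj gt (gx ^ t.re.val * gz ^ t.im.val) ∈ Q0
    rw [map_mul, map_pow, map_pow, MulAut.conj_apply, MulAut.conj_apply, e1, e2]
    exact mul_mem (pow_mem gx_mem _) (pow_mem (mul_mem (mul_mem (mul_mem (mul_mem gx_mem hz) hz) hz) hz) _)
  · show MulAut.conj gt (gh ^ lg a) ∈ Q0
    rw [map_pow, MulAut.conj_apply, e3]
    exact pow_mem (mul_mem (mul_mem (mul_mem (mul_mem gh_mem gh_mem) gh_mem) gh_mem) gh_mem) _
  · show MulAut.conj gt gw ∈ Q0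
    rw [MulAut.conj_apply, e4]
    exact gw_mem

end Cfsg.Agent.H1.K3
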