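import Cfsg.Agent.H1.K3.Irr
import Cfsg.Agent.H920.Sz12.Kill
import Cfsg.Agent.H464.L2Cover
import Cfsg.Agent.S2540

/-!
# `SL₂(25) < 2.Suz < Sp₁₂(3)`: the core (helper1)

* `Q0` : the range of `rep`; `QF f` : its image over `F`;
* `core_QF`, `soc_QF`, `QF_le`.
-/

set_option autoImplicit false
set_option linter.style.haveILetI false
set_option Elab.async false

namespace Cfsg.Agent.H1.K3

open Matrix Cfsg Cfsg.Geo
open Cfsg.Agent.H915.LD (Core Soc toSoc toSoc_surjective tr)
open Cfsg.Agent.H920.Sz12 (I12 toM G GF WF aR bR cR dR jR G_mem_W map_injective map_mem_scalars soc_map perfect_map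
  subfield_eq_top WF_le)
open Cfsg.Agent.Lib.SL2Lift (X hom_X hom_W hom_H hom_mem)

local notation "S25" => SpecialLinearGroup (Fin 2) K25

theorem rep_X (t : K25) : rep (X t) = xe t := hom_X rel t

theorem rep_W : rep Cfsg.Agent.Lib.SL2Lift.W = gw := hom_W rel

theorem rep_H (a : K25) (ha : a ≠ 0) : rep (Cfsg.Agent.Lib.SL2Lift.H a ha) = he a := hom_H rel a ha

/-- `SL₂(25)` -/
noncomputable def Q0 : Subgroup (GL I12 (ZMod 3)) := rep.range

theorem xe_one : xe 1 = gx := by
  show gx ^ (1 : ZMod 5).val * gz ^ (0 : ZMod 5).val = gx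
  rw [show (1 : ZMod 5).val = 1 from rfl, show (0 : ZMod 5).val = 0 from rfl, pow_one, pow_zero, mul_one]

theorem xe_om : xe om = gz := by
  show gx ^ (0 : ZMod 5).val * gz ^ (1 : ZMod 5).val = gz
  rw [show (1 : ZMod 5).val = 1 from rfl, show (0 : ZMod 5).val = 0 from rfl, pow_one, pow_zero, one_mul]

theorem he_om : he om = gh := by
  have h : lg om = 1 := by
    show lgab 0 1 = 1
    decide
  unfold he
  rw [h, pow_one]

theorem gx_mem : gx ∈ Q0 := ⟨X 1, by rw [rep_X, xe_one]⟩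

theorem gw_mem : gw ∈ Q0 := ⟨_, rep_W⟩

theorem om_ne : om ≠ 0 := fun h => absurd (congrArg QuadraticAlgebra.im h) (by decide)

theorem gh_mem : gh ∈ Q0 := ⟨_, (rep_H om om_ne).trans he_om⟩

theorem word_mem (w : List ℕ) (hw : ∀ i ∈ w, i < 7) : (w.map G).prod ∈ Cfsg.Agent.H920.Sz12.W := by
  refine Subgroup.list_prod_mem _ fun g hg => ?_
  obtain ⟨i, hi, rfl⟩ := List.mem_map.1 hg
  exact G_mem_W (hw i hi)

theorem Q0_le : Q0 ≤ Cfsg.Agent.H920.Sz12.W := by
  have h1 : gx ∈ Cfsg.Agent.H920.Sz12.W := word_mem wx (by decide +kernel)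
  have h2 : gh ∈ Cfsg.Agent.H920.Sz12.W := word_mem wh (by decide +kernel)
  have h3 : gz ∈ Cfsg.Agent.H920.Sz12.W :=
    mul_mem (mul_mem (mul_mem (mul_mem h1 h1) h2) h1) (inv_mem h2)
  rintro _ ⟨g, rfl⟩
  refine hom_mem rel _ (fun t => ?_) (fun a _ => ?_) ?_ g
  · exact mul_mem (pow_mem h1 _) (pow_mem h3 _)
  · exact pow_mem h2 _
  · exact G_mem_W (by norm_num)

theorem card_k25' : 4 ≤ Fintype.card K25 := by rw [card_k25]; norm_num

theorem perfect_Q0 : ⁅Q0, Q0⁆ = Q0 := by
  unfold Q0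
  rw [MonoidHom.range_eq_map, ← Subgroup.map_commutator, ← commutator_def,
    Cfsg.Agent.H464.Sl2.commutator_sl2 card_k25']

/-! ### the quotient -/

theorem simple_psl : IsSimpleGroup (ProjectiveSpecialLinearGroup (Fin 2) K25) :=
  Matrix.ProjectiveSpecialLinearGroup.rank_two_simple (by rw [Nat.card_eq_fintype_card]; exact card_k25')

theorem gx_not_scalar : gx ∉ scalars I12 (ZMod 3) := by
  rintro ⟨c, hc⟩
  have h1 : ∀ i : I12, toM xR i i = c := by
    intro i
    rw [← coe_gx, ← hc]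
    simp
  have h2 : toM xR (Sum.inl 0) (Sum.inl 1) = 0 := by
    rw [← coe_gx, ← hc]
    simp
  have h3 : toM xR (Sum.inl 0) (Sum.inl 2) = 0 := by
    rw [← coe_gx, ← hc]
    simp
  have h4 : toM xR (Sum.inl 0) (Sum.inl 3) = 0 := by
    rw [← coe_gx, ← hc]
    simp
  revert h2 h3 h4
  decide +kernel

theorem neg_mem_scalars : (-1 : GL I12 (ZMod 3)) ∈ scalars I12 (ZMod 3) := by
  refine ⟨-1, ?_⟩
  apply Units.ext
  simp

theorem gw_sq : gw * gw = -1 := by
  have h := Cfsg.Agent.H920.Sz12.word_neg (w := [3, 3]) (w' := []) (by decide +kernel)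
  simpa [gw] using h

/-- the map to the quotient -/
noncomputable def toS : S25 →* Soc Q0 := (toSoc Q0).comp rep.rangeRestrict

theorem toS_surj : Function.Surjective toS := (toSoc_surjective Q0).comp rep.rangeRestrict_surjective

theorem toS_ker {g : S25} : g ∈ toS.ker ↔ rep g ∈ scalars I12 (ZMod 3) := by
  rw [MonoidHom.mem_ker]
  show toSoc Q0 ⟨rep g, ⟨g, rfl⟩⟩ = 1 ↔ _
  rw [← MonoidHom.mem_ker, Cfsg.Agent.H915.LD.ker_toSoc, Subgroup.mem_subgroupOf]

theorem W_sq : (Cfsg.Agent.Lib.SL2Lift.W : S25) * Cfsg.Agent.Lib.SL2Lift.W = -1 := by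
  have h : (!![0, 1; -1, 0] : Matrix (Fin 2) (Fin 2) K25) * (!![0, 1; -1, 0] : Matrix (Fin 2) (Fin 2) K25) = -1 := by
    refine Matrix.ext fun i j => ?_
    fin_cases i <;> fin_cases j <;> simp [Matrix.mul_apply, Fin.sum_univ_two]
  exact Subtype.ext h

theorem rep_neg_one : rep (-1) = -1 := by
  rw [← W_sq, map_mul, rep_W, gw_sq]

theorem ker_toS : toS.ker = Subgroup.center S25 := by
  rcases Cfsg.Agent.S2540.normal_dichotomy (Cfsg.Agent.H464.Sl2.commutator_sl2 card_k25') simple_psl toS.ker with h | h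
  · refine le_antisymm h fun g hg => ?_
    rw [Matrix.SpecialLinearGroup.mem_center_iff] at hg
    obtain ⟨r, hr1, hr2⟩ := hg
    rw [Fintype.card_fin, sq, mul_self_eq_one_iff] at hr1
    rw [toS_ker]
    rcases hr1 with rfl | rfl
    · have : g = 1 := by
        apply Subtype.ext
        rw [← hr2]
        simp
      rw [this, map_one]
      exact one_mem _
    · have : g = -1 := by
        apply Subtype.ext
        rw [← hr2]
        refine Matrix.ext fun i j => ?_
        fin_cases i <;> fin_cases j <;> simp [Matrix.scalar_apply]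
      rw [this, rep_neg_one]
      exact neg_mem_scalars
  · exfalso
    have h1 : (X 1 : S25) ∈ toS.ker := by rw [h]; exact Subgroup.mem_top _
    rw [toS_ker, rep_X, xe_one] at h1
    exact gx_not_scalar h1

theorem soc_Q0 : Nonempty (Soc Q0 ≃* ProjectiveSpecialLinearGroup (Fin 2) K25) :=
  ⟨((QuotientGroup.quotientMulEquivOfEq ker_toS).symm.trans
    (QuotientGroup.quotientKerEquivOfSurjective toS toS_surj)).symm⟩

/-! ### over `F` -/

variable {F : Type*} [Field F] (f : ZMod 3 →+* F)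

/-- `SL₂(25)` over `F` -/
noncomputable def QF : Subgroup (GL I12 F) := Q0.map (Matrix.GeneralLinearGroup.map f)

theorem soc_QF : Nonempty (Soc (QF f) ≃* ProjectiveSpecialLinearGroup (Fin 2) K25) := by
  haveI : Nonempty I12 := ⟨Sum.inl 0⟩
  obtain ⟨e⟩ := soc_map f Q0
  obtain ⟨e'⟩ := soc_Q0
  exact ⟨e.symm.trans e'⟩

theorem QF_le : QF f ≤ WF f := Subgroup.map_mono Q0_le

theorem mem_QF {g : GL I12 (ZMod 3)} (hg : g ∈ Q0) : Matrix.GeneralLinearGroup.map f g ∈ QF f :=
  Subgroup.mem_map_of_mem _ hg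

theorem absIrred_QF : ActsAbsolutelyIrreducibly (matrixSet (QF f)) := by
  have hx : f.mapMatrix (toM xR) ∈ matrixSet (QF f) :=
    ⟨_, mem_QF f gx_mem, by rw [← coe_gx]; rfl⟩
  have hxi : f.mapMatrix (toM xiR) ∈ matrixSet (QF f) :=
    ⟨_, mem_QF f (inv_mem gx_mem), by rw [← coe_gx_inv]; rfl⟩
  have hh : f.mapMatrix (toM hR) ∈ matrixSet (QF f) :=
    ⟨_, mem_QF f gh_mem, by rw [← coe_gh]; rfl⟩
  have hhi : f.mapMatrix (toM hiR) ∈ matrixSet (QF f) :=
    ⟨_, mem_QF f (inv_mem gh_mem), by rw [← coe_gh_inv]; rfl⟩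
  have hw : f.mapMatrix (toM dR) ∈ matrixSet (QF f) :=
    ⟨_, mem_QF f gw_mem, by rw [← coe_gw]; rfl⟩
  have hact : ∀ {s : Matrix I12 I12 F} {W : Submodule F (I12 → F)}, s ∈ matrixSet (QF f) →
      (∀ g ∈ QF f, ∀ x ∈ W, (g : Matrix I12 I12 F) *ᵥ x ∈ W) → ∀ x ∈ W, s *ᵥ x ∈ W := by
    rintro s W ⟨g, hg, rfl⟩ hW x hx
    exact hW g hg x hx
  refine absIrr_of_cert (Matrix.J (Fin 6) F) (f.mapMatrix (toM nA)) (f ∘ col 0) (Pi.single (Sum.inr 5) 1) ?_ ?_ ?_ ?_ ?_
    ?_ ?_
  · intro g hg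
    exact Cfsg.Agent.H914.S6.transpose_J (WF_le f (QF_le f hg))
  · intro y hy
    have h1 : Matrix.J (Fin 6) F *ᵥ (Matrix.J (Fin 6) F *ᵥ y) = 0 := by rw [hy, mulVec_zero]
    rw [mulVec_mulVec, Matrix.J_squared, neg_mulVec, one_mulVec, neg_eq_zero] at h1
    exact h1
  · rw [A_eq, map_add, map_sub, map_sub]
    exact Submodule.add_mem _ (Submodule.sub_mem _ (Submodule.sub_mem _ (Submodule.subset_span hx)
      (Submodule.subset_span hxi)) (Submodule.subset_span hh)) (Submodule.subset_span hhi)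
  · have h := congrArg f.mapMatrix parse_adj.1
    rw [Cfsg.Agent.H920.Sz12.J_eq, map_mul, map_neg, map_mul, Cfsg.Agent.H920.Sz12.map_J] at h
    exact h
  · intro x hx
    have h1 : f.mapMatrix (toM nB) * f.mapMatrix (toM nA) + f.mapMatrix (toM nV) = 1 := by
      rw [← map_mul, parse_adj.2.1, ← map_add, one_eq, map_one]
    have h2 : x = (f.mapMatrix (toM nB) * f.mapMatrix (toM nA) + f.mapMatrix (toM nV)) *ᵥ x := by
      rw [h1, one_mulVec]
    rw [add_mulVec, ← mulVec_mulVec, hx, mulVec_zero, zero_add, V_mulVec_map] at h2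
    rw [single_one_dotProduct]
    exact h2
  · have h1 := congrArg f.mapMatrix parse_adj.2.2.1
    rw [map_mul, map_zero] at h1
    have h2 : f.mapMatrix (toM nA) *ᵥ (f.mapMatrix (toM nV) *ᵥ (Pi.single (Sum.inr 5) 1)) = 0 := by
      rw [mulVec_mulVec, h1, zero_mulVec]
    rw [V_mulVec_map, Pi.single_eq_same, one_smul] at h2
    exact h2
  · intro W hW hv
    exact spin f (hact hx hW) (hact hh hW) (hact hw hW) hv

theorem core_QF (hF : Nat.card F = 3) : Core (QF f) := by
  obtain ⟨e⟩ := soc_QF f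
  have h1 := simple_psl
  refine ⟨perfect_map f perfect_Q0, ?_, fun h => ?_, absIrred_QF f, fun K hK => (hK (subfield_eq_top f hF K)).elim⟩
  · haveI := h1
    haveI : Nontrivial (Soc (QF f)) := e.toEquiv.nontrivial
    exact IsSimpleGroup.isSimpleGroup_of_surjective e.symm.toMonoidHom e.symm.surjective
  · -- a commutative quotient of a perfect group is trivial
    have h2 : ∀ a b : ProjectiveSpecialLinearGroup (Fin 2) K25, a * b = b * a := by
      intro a b
      apply e.symm.injective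
      rw [map_mul, map_mul]
      exact h.is_comm.comm _ _
    have h3 := Cfsg.Agent.H464.Sl2.commutator_sl2 card_k25'
    have h4 : commutator (ProjectiveSpecialLinearGroup (Fin 2) K25) = ⊥ := by
      rw [eq_bot_iff, commutator_def, Subgroup.commutator_le]
      intro a _ b _
      rw [Subgroup.mem_bot, commutatorElement_def, h2 a b, mul_inv_cancel_right, mul_inv_cancel]
    have h5 : (commutator S25).map (QuotientGroup.mk' (Subgroup.center S25)) =
        commutator (ProjectiveSpecialLinearGroup (Fin 2) K25) := by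
      rw [commutator_def, Subgroup.map_commutator, ← MonoidHom.range_eq_map,
        MonoidHom.range_eq_top.2 (QuotientGroup.mk'_surjective _)]
      rfl
    rw [h3, h4, ← MonoidHom.range_eq_map, MonoidHom.range_eq_top.2 (QuotientGroup.mk'_surjective _)] at h5
    haveI := h1.toNontrivial
    exact top_ne_bot h5

end Cfsg.Agent.H1.K3
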