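import Mathlib.LinearAlgebra.Matrix.ToLin
import Mathlib.LinearAlgebra.FiniteDimensional.Basic
import Mathlib.Tactic
import Cfsg.Prelude.Def_GeometricClasses

/-!
# Norton's criterion for groups preserving a bilinear form (helper1)

`absIrr_of_cert`: if `P` preserves the non-degenerate form `J`, and `A` is a linear combination of elements of `P`,
skew for `J`, with one-dimensional kernel `⟨v⟩`, and `v` generates the module, then `P` is absolutely irreducible.
-/

set_option autoImplicit false

namespace Cfsg.Agent.H1.K3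

open Matrix Cfsg Cfsg.Geo

variable {F : Type*} [Field F] {ι : Type} [Fintype ι] [DecidableEq ι] {P : Subgroup (GL ι F)}

theorem absIrr_of_cert (J A : Matrix ι ι F) (v e : ι → F)
    (hJ : ∀ g ∈ P, (g : Matrix ι ι F)ᵀ * J * (g : Matrix ι ι F) = J) (hJi : ∀ y, J *ᵥ y = 0 → y = 0)
    (hA : A ∈ Submodule.span F (matrixSet P)) (hadj : Aᵀ * J = -(J * A))
    (hker : ∀ x, A *ᵥ x = 0 → x = (e ⬝ᵥ x) • v) (hv : A *ᵥ v = 0)
    (hspin : ∀ W : Submodule F (ι → F), (∀ g ∈ P, ∀ x ∈ W, (g : Matrix ι ι F) *ᵥ x ∈ W) → v ∈ W → W = ⊤) :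
    ActsAbsolutelyIrreducibly (matrixSet P) := by
  refine ⟨fun W hW => ?_, fun M hM => ?_⟩
  · have hW1 : ∀ g ∈ P, ∀ x ∈ W, (g : Matrix ι ι F) *ᵥ x ∈ W := by
      intro g hg x hx
      exact hW _ ⟨g, hg, rfl⟩ ⟨x, hx, by simp⟩
    have hWA : ∀ x ∈ W, A *ᵥ x ∈ W := by
      intro x hx
      clear hadj hker hv
      induction hA using Submodule.span_induction with
      | mem s hs =>
        obtain ⟨g, hg, rfl⟩ := hs
        exact hW1 g hg x hx
      | zero => rw [zero_mulVec]; exact W.zero_mem
      | add a b _ _ ha hb => rw [add_mulVec]; exact W.add_mem ha hb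
      | smul c a _ ha => rw [smul_mulVec]; exact W.smul_mem _ ha
    by_cases h : ∃ x ∈ W, x ≠ 0 ∧ A *ᵥ x = 0
    · obtain ⟨x, hx, hx0, hAx⟩ := h
      right
      apply hspin W hW1
      have h1 := hker x hAx
      have hc : e ⬝ᵥ x ≠ 0 := by
        intro h
        rw [h, zero_smul] at h1
        exact hx0 h1
      have h2 : v = (e ⬝ᵥ x)⁻¹ • x := by
        conv_rhs => rw [h1, dotProduct_smul, smul_smul]
        have h3 : e ⬝ᵥ v = 1 := by
          have h4 := congrArg (fun y => e ⬝ᵥ y) h1
          simp only [dotProduct_smul, smul_eq_mul] at h4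
          exact mul_left_cancel₀ hc (by rw [← h4, mul_one])
        rw [h3, smul_eq_mul, mul_one, inv_mul_cancel₀ hc, one_smul]
      rw [h2]
      exact W.smul_mem _ hx
    · left
      push Not at h
      let T : W →ₗ[F] W := (toLin' A).restrict (p := W) (q := W) (fun x hx => by
        rw [toLin'_apply]
        exact hWA x hx)
      have hinj : Function.Injective T := by
        rw [← LinearMap.ker_eq_bot, eq_bot_iff]
        rintro ⟨x, hx⟩ hT
        rw [LinearMap.mem_ker] at hT
        have h1 : A *ᵥ x = 0 := by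
          have h2 := congrArg Subtype.val hT
          simpa [T] using h2
        by_contra hne
        exact h x hx (fun h0 => hne (by subst h0; exact Subtype.ext rfl)) h1
      have hsurj : Function.Surjective T := LinearMap.injective_iff_surjective.1 hinj
      let W' : Submodule F (ι → F) :=
        { carrier := {x | ∀ y ∈ W, x ⬝ᵥ J *ᵥ y = 0}
          add_mem' := fun {a b} ha hb y hy => by rw [add_dotProduct, ha y hy, hb y hy, add_zero]
          zero_mem' := fun y _ => zero_dotProduct _
          smul_mem' := fun c x hx y hy => by rw [smul_dotProduct, hx y hy, smul_zero] }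
      have hv' : v ∈ W' := by
        intro y hy
        obtain ⟨⟨z, hz⟩, hzy⟩ := hsurj ⟨y, hy⟩
        have h1 : A *ᵥ z = y := by
          have h2 := congrArg Subtype.val hzy
          simpa [T] using h2
        rw [← h1, mulVec_mulVec, show J * A = -(Aᵀ * J) by rw [hadj, neg_neg], neg_mulVec, dotProduct_neg,
          ← mulVec_mulVec, dotProduct_mulVec, vecMul_transpose, hv, zero_dotProduct, neg_zero]
      have hW' : ∀ g ∈ P, ∀ x ∈ W', (g : Matrix ι ι F) *ᵥ x ∈ W' := by
        intro g hg x hx y hy
        have h1 : (g : Matrix ι ι F)ᵀ * J = J * ((g⁻¹ : GL ι F) : Matrix ι ι F) := by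
          have h2 := hJ g hg
          calc (g : Matrix ι ι F)ᵀ * J = (g : Matrix ι ι F)ᵀ * J * ((g : Matrix ι ι F) * ((g⁻¹ : GL ι F) : Matrix ι ι F)) := by
                rw [← Units.val_mul, mul_inv_cancel, Units.val_one, mul_one]
            _ = _ := by rw [← mul_assoc, h2]
        have h3 := hx _ (hW1 _ (inv_mem hg) y hy)
        rw [mulVec_mulVec, ← h1, ← mulVec_mulVec, dotProduct_mulVec, vecMul_transpose] at h3
        exact h3
      have htop := hspin W' hW' hv'
      rw [eq_bot_iff]
      intro y hy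
      rw [Submodule.mem_bot]
      apply hJi
      funext i
      have h1 : (Pi.single i 1 : ι → F) ∈ W' := by rw [htop]; exact Submodule.mem_top
      have h2 := h1 y hy
      rwa [single_one_dotProduct] at h2
  · have hMA : M * A = A * M := by
      clear hadj hker hv
      induction hA using Submodule.span_induction with
      | mem s hs => exact hM s hs
      | zero => rw [mul_zero, zero_mul]
      | add a b _ _ ha hb => rw [mul_add, add_mul, ha, hb]
      | smul c a _ ha => rw [Matrix.mul_smul, Matrix.smul_mul, ha]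
    have h1 : A *ᵥ (M *ᵥ v) = 0 := by
      rw [mulVec_mulVec, ← hMA, ← mulVec_mulVec, hv, mulVec_zero]
    have h2 := hker _ h1
    set c := e ⬝ᵥ (M *ᵥ v) with hc
    refine ⟨c, ?_⟩
    have h3 := hspin (LinearMap.ker (toLin' (M - c • (1 : Matrix ι ι F)))) (by
      intro g hg x hx
      rw [LinearMap.mem_ker, toLin'_apply, mulVec_mulVec] at *
      have h4 : (M - c • (1 : Matrix ι ι F)) * (g : Matrix ι ι F) = (g : Matrix ι ι F) * (M - c • (1 : Matrix ι ι F)) := by
        rw [sub_mul, mul_sub, hM _ ⟨g, hg, rfl⟩, Matrix.smul_mul, Matrix.mul_smul, one_mul, mul_one]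
      rw [h4, ← mulVec_mulVec, hx, mulVec_zero]) (by
      rw [LinearMap.mem_ker, toLin'_apply, sub_mulVec, smul_mulVec, one_mulVec, h2, sub_self])
    have h5 : toLin' (M - c • (1 : Matrix ι ι F)) = 0 := LinearMap.ker_eq_top.1 h3
    rw [LinearEquiv.map_eq_zero_iff] at h5
    exact sub_eq_zero.1 h5

end Cfsg.Agent.H1.K3
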