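import Cfsg.Agent.H1.K3.Rel
import Cfsg.Agent.H1.K3.Norton

/-!
# `SL₂(25) < 2.Suz < Sp₁₂(3)`: absolute irreducibility (helper1)
-/

set_option autoImplicit false
set_option Elab.async false

namespace Cfsg.Agent.H1.K3

open Matrix Cfsg Cfsg.Geo
open Cfsg.Agent.H920.Sz12

/-! ### the checks -/

theorem chk_A : ((List.range 12).all fun i => (List.range 12).all fun j =>
    (dg (nA.getD i 0) j + dg (xiR.getD i 0) j + dg (hR.getD i 0) j) % 3 ==
      (dg (xR.getD i 0) j + dg (hiR.getD i 0) j) % 3) = true := by decide +kernel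

theorem chk_adj : (trB nA nAT && eqB N 2 [20, 21] [21, 13] && eqB N 1 [14, 13] [15] && eqB N 0 [13, 16] [] &&
    eqB N 1 [17, 18] []) = true := by decide +kernel

theorem chk_one : ((List.range 12).all fun i => (List.range 12).all fun j =>
    (dg (nBA.getD i 0) j + dg (nV.getD i 0) j) % 3 == dg (idR.getD i 0) j % 3) = true := by decide +kernel

theorem chk_V : ((List.range 12).all fun i => (List.range 11).all fun j => dg (nV.getD i 0) j == 0) = true := by
  decide +kernel

/-- the columns of the basis -/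
def col (k : Fin 12) (i : I12) : ZMod 3 := toM sR i (finSumFinEquiv.symm k)

theorem chk_col0 : ∀ i : I12, toM nV i (Sum.inr 5) = col 0 i := by decide +kernel

theorem chk_spin : ∀ j : Fin 4, ∀ r : I12, (toM xR *ᵥ col ⟨j.val, by omega⟩) r = col ⟨3 * j.val + 1, by omega⟩ r ∧
    (toM hR *ᵥ col ⟨j.val, by omega⟩) r = col ⟨3 * j.val + 2, by omega⟩ r := by decide +kernel

theorem chk_spin' : ∀ j : Fin 3, ∀ r : I12,
    (toM dR *ᵥ col ⟨j.val, by omega⟩) r = col ⟨3 * j.val + 3, by omega⟩ r := by decide +kernel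

/-! ### the matrices -/

theorem cast_of_mod {a b : ℕ} (h : (a % 3 == b % 3) = true) : (a : ZMod 3) = (b : ZMod 3) := by
  rw [beq_iff_eq] at h
  rw [← ZMod.natCast_mod a, ← ZMod.natCast_mod b, h]

theorem all_spec {p : ℕ → ℕ → Bool} (h : ((List.range 12).all fun i => (List.range 12).all fun j => p i j) = true)
    (i j : I12) : p (ix i) (ix j) = true := by
  rw [List.all_eq_true] at h
  have h1 := h (ix i) (List.mem_range.2 (ix_lt i))
  rw [List.all_eq_true] at h1
  exact h1 (ix j) (List.mem_range.2 (ix_lt j))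

theorem A_eq : toM nA = toM xR - toM xiR - toM hR + toM hiR := by
  have h : toM nA + toM xiR + toM hR = toM xR + toM hiR := by
    refine Matrix.ext fun i j => ?_
    have h := cast_of_mod (all_spec chk_A i j)
    push_cast at h
    exact h
  rw [eq_sub_of_add_eq (eq_sub_of_add_eq h)]
  abel

theorem parse_adj : (toM nA)ᵀ * toM jR = -(toM jR * toM nA) ∧ toM nB * toM nA = toM nBA ∧ toM nA * toM nV = 0 ∧
    toM sR * toM siR = 1 := by
  have h := chk_adj
  simp only [Bool.and_eq_true] at h
  obtain ⟨⟨⟨⟨h1, h2⟩, h3⟩, h4⟩, h5⟩ := h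
  have e2 : ((2 : ℕ) : ZMod 3) = -1 := by decide
  refine ⟨?_, ?_, ?_, ?_⟩
  · rw [trB_spec h1]
    have := eqB_spec good_N h2
    simp only [List.map_cons, List.map_nil, List.prod_cons, List.prod_nil, mul_one, e2, neg_one_smul] at this
    exact this
  · have := eqB_spec good_N h3
    simp only [List.map_cons, List.map_nil, List.prod_cons, List.prod_nil, mul_one, Nat.cast_one, one_smul] at this
    exact this
  · have := eqB_spec good_N h4
    simp only [List.map_cons, List.map_nil, List.prod_cons, List.prod_nil, mul_one, Nat.cast_zero, zero_smul] at this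
    exact this
  · have := eqB_spec good_N h5
    simp only [List.map_cons, List.map_nil, List.prod_cons, List.prod_nil, mul_one, Nat.cast_one, one_smul] at this
    exact this

theorem one_eq : toM nBA + toM nV = 1 := by
  rw [← toM_id]
  refine Matrix.ext fun i j => ?_
  have h := cast_of_mod (all_spec chk_one i j)
  push_cast at h
  exact h

theorem V_zero (i : I12) {j : I12} (hj : j ≠ Sum.inr 5) : toM nV i j = 0 := by
  have h := chk_V
  rw [List.all_eq_true] at h
  have h1 := h (ix i) (List.mem_range.2 (ix_lt i))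
  rw [List.all_eq_true] at h1
  have h2 : ix j < 11 := by
    have h3 := ix_lt j
    have h4 : ix j ≠ 11 := fun h => hj (ix_inj (h.trans (by decide)))
    omega
  have h3 := h1 (ix j) (List.mem_range.2 h2)
  rw [beq_iff_eq] at h3
  unfold toM
  rw [h3, Nat.cast_zero]

theorem V_mulVec (x : I12 → ZMod 3) : toM nV *ᵥ x = x (Sum.inr 5) • col 0 := by
  funext i
  rw [mulVec, dotProduct, Finset.sum_eq_single (Sum.inr 5)]
  · rw [chk_col0, Pi.smul_apply, smul_eq_mul, mul_comm]
  · intro j _ hj
    rw [V_zero i hj, zero_mul]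
  · intro h
    exact absurd (Finset.mem_univ _) h

section field

variable {F : Type*} [Field F] (f : ZMod 3 →+* F)

theorem map_mulVec (A : Matrix I12 I12 (ZMod 3)) (x : I12 → ZMod 3) :
    f.mapMatrix A *ᵥ (f ∘ x) = f ∘ (A *ᵥ x) := by
  funext i
  simp only [mulVec, dotProduct, Function.comp_apply, map_sum, map_mul, RingHom.mapMatrix_apply, map_apply]

theorem V_mulVec_map (x : I12 → F) : f.mapMatrix (toM nV) *ᵥ x = x (Sum.inr 5) • (f ∘ col 0) := by
  funext i
  rw [mulVec, dotProduct, Finset.sum_eq_single (Sum.inr 5)]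
  · rw [RingHom.mapMatrix_apply, map_apply, chk_col0, Pi.smul_apply, smul_eq_mul, mul_comm]
    rfl
  · intro j _ hj
    rw [RingHom.mapMatrix_apply, map_apply, V_zero i hj, map_zero, zero_mul]
  · intro h
    exact absurd (Finset.mem_univ _) h

theorem spin {W : Submodule F (I12 → F)} (hx : ∀ x ∈ W, f.mapMatrix (toM xR) *ᵥ x ∈ W)
    (hh : ∀ x ∈ W, f.mapMatrix (toM hR) *ᵥ x ∈ W) (hw : ∀ x ∈ W, f.mapMatrix (toM dR) *ᵥ x ∈ W)
    (hv : f ∘ col 0 ∈ W) : W = ⊤ := by
  have key : ∀ n : ℕ, ∀ hn : n < 12, f ∘ col ⟨n, hn⟩ ∈ W := by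
    intro n
    induction n using Nat.strong_induction_on with
    | _ n ih =>
      intro hn
      rcases Nat.eq_zero_or_pos n with rfl | hpos
      · exact hv
      · obtain ⟨j, t, ht, rfl⟩ : ∃ j t : ℕ, t < 3 ∧ n = 3 * j + (t + 1) := ⟨(n - 1) / 3, (n - 1) % 3, by omega, by omega⟩
        have hj := ih j (by omega) (by omega)
        interval_cases t
        · have h1 : f.mapMatrix (toM xR) *ᵥ (f ∘ col ⟨j, by omega⟩) = f ∘ col ⟨3 * j + 1, hn⟩ := by
            rw [map_mulVec]
            congr 1
            funext r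
            exact (chk_spin ⟨j, by omega⟩ r).1
          have h2 := hx _ hj
          rwa [h1] at h2
        · have h1 : f.mapMatrix (toM hR) *ᵥ (f ∘ col ⟨j, by omega⟩) = f ∘ col ⟨3 * j + 2, hn⟩ := by
            rw [map_mulVec]
            congr 1
            funext r
            exact (chk_spin ⟨j, by omega⟩ r).2
          have h2 := hh _ hj
          rwa [h1] at h2
        · have h1 : f.mapMatrix (toM dR) *ᵥ (f ∘ col ⟨j, by omega⟩) = f ∘ col ⟨3 * j + 3, hn⟩ := by
            rw [map_mulVec]
            congr 1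
            funext r
            exact chk_spin' ⟨j, by omega⟩ r
          have h2 := hw _ hj
          rwa [h1] at h2
  -- every vector is a combination of the columns
  rw [eq_top_iff]
  intro x _
  have h1 : f.mapMatrix (toM sR) * f.mapMatrix (toM siR) = 1 := by rw [← map_mul, parse_adj.2.2.2, map_one]
  have h2 : x = f.mapMatrix (toM sR) *ᵥ (f.mapMatrix (toM siR) *ᵥ x) := by rw [mulVec_mulVec, h1, one_mulVec]
  have h3 : ∀ y : I12 → F, f.mapMatrix (toM sR) *ᵥ y = ∑ k : I12, y k • (f ∘ col (finSumFinEquiv k)) := by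
    intro y
    funext i
    rw [Finset.sum_apply]
    simp only [mulVec, dotProduct, Pi.smul_apply, smul_eq_mul, Function.comp_apply, RingHom.mapMatrix_apply, map_apply]
    refine Finset.sum_congr rfl fun k _ => ?_
    unfold col
    rw [Equiv.symm_apply_apply, mul_comm]
  rw [h2, h3]
  refine W.sum_mem fun k _ => W.smul_mem _ ?_
  exact key _ (finSumFinEquiv k).isLt

end field

end Cfsg.Agent.H1.K3
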