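import Cfsg.Agent.H1.K3.Aut
import Cfsg.Agent.H464.L2Conj

/-!
# K3: `SL₂(25)` is not the core of a maximal subgroup of `Sp₁₂(3)` (helper1)

`k3` : `H` maximal in `spGL 6 F`, `|F| = 3`, `P` a residual core of `H`, `Soc P ≃* PSL₂(K)`, `|K| = 25` ⟹ `False`.
-/

set_option autoImplicit false
set_option linter.style.haveILetI false

namespace Cfsg.Agent.H1.K3

open Matrix Cfsg Cfsg.Geo
open Cfsg.Agent.H915.LD (Core Soc toSoc toSoc_surjective tr tr_conj tr_mul_comm core_of_residual)
open Cfsg.Agent.H920.Sz12 (I12 toM WF jR eqB_spec trB_spec trB eqB map_form sympForm_of map_injective map_mem_scalars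
  kill_pair exists_ratio tform)
open Cfsg.Agent.Lib.SL2Lift (X)

universe u v

local notation "S25" => SpecialLinearGroup (Fin 2) K25

/-! ### the group `PSL₂` of isomorphic fields -/

section psl

variable {A : Type u} {B : Type v} [Field A] [Field B] (e : A ≃+* B)

/-- the isomorphism of the special linear groups -/
def slEquiv : SpecialLinearGroup (Fin 2) A ≃* SpecialLinearGroup (Fin 2) B where
  toFun x := Matrix.SpecialLinearGroup.map e.toRingHom x
  invFun x := Matrix.SpecialLinearGroup.map e.symm.toRingHom x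
  left_inv x := by
    refine Matrix.SpecialLinearGroup.ext _ _ fun i j => ?_
    exact e.symm_apply_apply (x.1 i j)
  right_inv x := by
    refine Matrix.SpecialLinearGroup.ext _ _ fun i j => ?_
    exact e.apply_symm_apply (x.1 i j)
  map_mul' x y := map_mul _ x y

include e in
theorem psl_equiv : Nonempty (ProjectiveSpecialLinearGroup (Fin 2) A ≃* ProjectiveSpecialLinearGroup (Fin 2) B) := by
  refine ⟨QuotientGroup.congr _ _ (slEquiv e) ?_⟩
  ext y
  constructor
  · rintro ⟨x, hx, rfl⟩
    rw [Subgroup.mem_center_iff]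
    intro z
    obtain ⟨w, rfl⟩ := (slEquiv e).surjective z
    show slEquiv e w * slEquiv e x = slEquiv e x * slEquiv e w
    rw [← map_mul, ← map_mul, Subgroup.mem_center_iff.1 hx w]
  · intro hy
    obtain ⟨x, rfl⟩ := (slEquiv e).surjective y
    refine ⟨x, ?_, rfl⟩
    show x ∈ Subgroup.center _
    rw [Subgroup.mem_center_iff]
    intro z
    apply (slEquiv e).injective
    rw [map_mul, map_mul, Subgroup.mem_center_iff.1 hy]

theorem card_psl_le [Finite A] : Nat.card (ProjectiveSpecialLinearGroup (Fin 2) A) ≤ Nat.card A ^ 4 := by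
  have h1 : Nat.card (ProjectiveSpecialLinearGroup (Fin 2) A) ≤ Nat.card (SpecialLinearGroup (Fin 2) A) :=
    Nat.card_le_card_of_surjective _ (QuotientGroup.mk'_surjective (Subgroup.center (SpecialLinearGroup (Fin 2) A)))
  have h2 : Nat.card (SpecialLinearGroup (Fin 2) A) ≤ Nat.card (Fin 2 → Fin 2 → A) :=
    Nat.card_le_card_of_injective (fun x => x.1) Subtype.val_injective
  have h3 : Nat.card (Fin 2 → Fin 2 → A) = Nat.card A ^ 4 := by
    rw [Nat.card_fun, Nat.card_fun, Nat.card_eq_fintype_card (α := Fin 2), Fintype.card_fin, ← pow_mul]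
  omega

end psl

/-! ### traces and the form -/

theorem tr_gx : tr gx = 2 := by
  unfold tr
  rw [coe_gx]
  decide +kernel

theorem tr_gz : tr gz = 0 := by
  unfold tr
  rw [coe_gz]
  decide +kernel

theorem chk_tt : (trB tR tT && eqB N 2 [19, 21, 11] [21]) = true := by decide +kernel

theorem form_t : (toM tR)ᵀ * Matrix.J (Fin 6) (ZMod 3) * toM tR = (-1 : ZMod 3) • Matrix.J (Fin 6) (ZMod 3) := by
  have h := chk_tt
  rw [Bool.and_eq_true] at h
  have h1 := eqB_spec good_N h.2
  simp only [List.map_cons, List.map_nil, List.prod_cons, List.prod_nil, mul_one] at h1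
  have e2 : ((2 : ℕ) : ZMod 3) = -1 := by decide
  rw [trB_spec h.1, ← Cfsg.Agent.H920.Sz12.J_eq, mul_assoc, ← e2]
  exact h1

variable {F : Type u} [Field F] (f : ZMod 3 →+* F)

theorem tr_map (g : GL I12 (ZMod 3)) : tr (Matrix.GeneralLinearGroup.map f g) = f (tr g) := by
  unfold tr
  simp only [Matrix.trace, Matrix.diag_apply, map_sum]
  rfl

theorem gt_form (u v : I12 → F) : sympForm 6 F ((Matrix.GeneralLinearGroup.map f gt : Matrix I12 I12 F) *ᵥ u)
    ((Matrix.GeneralLinearGroup.map f gt : Matrix I12 I12 F) *ᵥ v) = -sympForm 6 F u v := by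
  have h := map_form f form_t
  have h1 := sympForm_of h u v
  rw [map_neg, map_one, neg_one_mul] at h1
  exact h1

theorem gt_norm_QF {x : GL I12 F} (hx : x ∈ QF f) :
    Matrix.GeneralLinearGroup.map f gt * x * (Matrix.GeneralLinearGroup.map f gt)⁻¹ ∈ QF f := by
  obtain ⟨y, hy, rfl⟩ := hx
  refine ⟨gt * y * gt⁻¹, gt_norm hy, ?_⟩
  rw [map_mul, map_mul, map_inv]

/-- the homomorphism over `F`, conjugated -/
noncomputable def rho (g : GL I12 F) : S25 →* GL I12 F :=
  (MulAut.conj g).toMonoidHom.comp ((Matrix.GeneralLinearGroup.map f).comp rep)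

theorem rho_apply (g : GL I12 F) (x : S25) : rho f g x = g * Matrix.GeneralLinearGroup.map f (rep x) * g⁻¹ := rfl

theorem rho_range (g : GL I12 F) : (rho f g).range = (QF f).map (MulAut.conj g).toMonoidHom := by
  unfold rho QF Q0
  rw [MonoidHom.range_comp, MonoidHom.range_comp]

theorem rho_ker (g : GL I12 F) : (rho f g).ker ≤ Subgroup.center S25 := by
  intro x hx
  rw [MonoidHom.mem_ker, rho_apply, mul_inv_eq_one, mul_eq_left] at hx
  have h1 : rep x = 1 := by
    apply map_injective f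
    rw [hx, map_one]
  rw [← ker_toS, toS_ker, h1]
  exact one_mem _

theorem rho_tr (g : GL I12 F) : tr (rho f g (X 1)) ≠ tr (rho f g (X om)) := by
  rw [rho_apply, rho_apply, tr_conj, tr_conj, tr_map, tr_map, rep_X, rep_X, xe_one, xe_om, tr_gx, tr_gz]
  intro h
  exact absurd (f.injective h) (by decide)

include f in
/-- **K3**, with a ring homomorphism. -/
theorem k3' (hF : Nat.card F = 3) {H P : Subgroup (GL I12 F)} (hH : IsMaximalIn (spGL 6 F) H)
    (hc : IsResidualCore H P) {K : Type v} [Field K] [Fintype K] (hK : Fintype.card K = 25)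
    (e : Soc P ≃* ProjectiveSpecialLinearGroup (Fin 2) K) : False := by
  haveI : Finite F := Nat.finite_of_card_ne_zero (by rw [hF]; norm_num)
  haveI : CharP F 3 := charP_of_injective_ringHom f.injective 3
  haveI : Fact (Nat.Prime 3) := ⟨by norm_num⟩
  have hPs : P ≤ spGL 6 F := hc.le.trans hH.1.le
  obtain ⟨e1⟩ := soc_QF f
  obtain ⟨e2⟩ := psl_equiv (FiniteField.ringEquivOfCardEq (K := K25) (K' := K) (by rw [card_k25, hK]))
  obtain ⟨g, hg⟩ := Cfsg.Agent.H464.Sl2.half_conj (p := 3) (core_QF f hF) (core_of_residual hc) (K := K)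
    (by rw [hK]; norm_num) (by rw [hK]; norm_num) (by rw [hK]; norm_num) (e1.trans e2) e
    (Or.inl (by rw [hK]; rfl))
  have hg' : ∀ x ∈ P, g⁻¹ * x * g ∈ QF f := by
    intro x hx
    rw [hg] at hx
    obtain ⟨y, hy, rfl⟩ := hx
    show g⁻¹ * (g * y * g⁻¹) * g ∈ QF f
    rwa [show g⁻¹ * (g * y * g⁻¹) * g = y by group]
  have hg'' : ∀ x ∈ P, g⁻¹ * x * g ∈ WF f := fun x hx => QF_le f (hg' x hx)
  obtain ⟨c, hc0, hcf⟩ := exists_ratio f hc.absIrred hPs hg''
  have hr : (rho f g).range = P := by rw [rho_range, hg]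
  have hirr : ActsAbsolutelyIrreducibly (matrixSet (rho f g).range) := by rw [hr]; exact hc.absIrred
  refine kill_pair f hF hH hc hg'' (n := g * Matrix.GeneralLinearGroup.map f gt * g⁻¹) ?_ ?_ ?_ ?_
  · intro a b ha hb ha' hb'
    rw [← hr] at ha hb ha' hb' ⊢
    exact out_two hirr (rho_ker f g) (rho_tr f g) ha hb ha' hb'
  · intro x hx
    rw [hg]
    refine ⟨_, gt_norm_QF f (hg' x hx), ?_⟩
    show g * (Matrix.GeneralLinearGroup.map f gt * (g⁻¹ * x * g) * (Matrix.GeneralLinearGroup.map f gt)⁻¹) * g⁻¹ =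
      g * Matrix.GeneralLinearGroup.map f gt * g⁻¹ * x * (g * Matrix.GeneralLinearGroup.map f gt * g⁻¹)⁻¹
    group
  · intro u v
    apply mul_left_cancel₀ hc0
    rw [← hcf, mul_neg, ← hcf]
    unfold tform
    rw [mulVec_mulVec, mulVec_mulVec, ← Units.val_mul,
      show g⁻¹ * (g * Matrix.GeneralLinearGroup.map f gt * g⁻¹) = Matrix.GeneralLinearGroup.map f gt * g⁻¹ by group,
      Units.val_mul, ← mulVec_mulVec, ← mulVec_mulVec, gt_form]
  · have h1 : Nat.card (Soc P) ≤ 25 ^ 4 := by
      rw [Nat.card_congr e.toEquiv]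
      refine card_psl_le.trans ?_
      rw [Nat.card_eq_fintype_card, hK]
    intro h2
    rw [h2] at h1
    norm_num at h1

/-- **K3.** -/
theorem k3 (hF : Nat.card F = 3) {H P : Subgroup (GL I12 F)} (hH : IsMaximalIn (spGL 6 F) H)
    (hc : IsResidualCore H P) {K : Type v} [Field K] [Fintype K] (hK : Fintype.card K = 25)
    (e : Soc P ≃* ProjectiveSpecialLinearGroup (Fin 2) K) : False := by
  haveI : Finite F := Nat.finite_of_card_ne_zero (by rw [hF]; norm_num)
  haveI : Fact (Nat.Prime 3) := ⟨by norm_num⟩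
  letI := Fintype.ofFinite F
  haveI : CharP F 3 := charP_of_card_eq_prime (by rw [← Nat.card_eq_fintype_card]; exact hF)
  exact k3' (ZMod.castHom dvd_rfl F) hF hH hc hK e

end Cfsg.Agent.H1.K3
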