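import Cfsg.Agent.H1.K3.Dat
import Cfsg.Agent.Lib.SL2Lift
import Mathlib.Algebra.QuadraticAlgebra.Basic

/-!
# `SL₂(25) < 2.Suz < Sp₁₂(3)`: the relations (helper1)

* `K25` : the field with 25 elements, `ω² = 3 + ω`;
* `rel`, `rep` : the homomorphism `SL₂(25) → GL₁₂(3)`.
-/

set_option autoImplicit false
set_option Elab.async false

namespace Cfsg.Agent.H1.K3

open Matrix Cfsg Cfsg.Geo
open Cfsg.Agent.H920.Sz12 Cfsg.Agent.Lib.SL2Lift

/-- the field with 25 elements -/
abbrev K25 : Type := QuadraticAlgebra (ZMod 5) 3 1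

instance prime5 : Fact (Nat.Prime 5) := ⟨by norm_num⟩

instance k25Fact : Fact (∀ r : ZMod 5, r ^ 2 ≠ 3 + 1 * r) := ⟨by decide⟩

instance k25Fintype : Fintype K25 := Fintype.ofEquiv _ (QuadraticAlgebra.equivProd (3 : ZMod 5) 1).symm

theorem card_k25 : Fintype.card K25 = 25 := by
  rw [Fintype.card_congr (QuadraticAlgebra.equivProd (3 : ZMod 5) 1)]
  rfl

/-- the logarithms -/
def lgL : List ℕ := [0, 0, 6, 18, 12, 1, 22, 15, 2, 17, 7, 8, 4, 23, 21, 19, 9, 11, 16, 20, 13, 5, 14, 3, 10]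

/-- the logarithm of `a + b ω` -/
def lgab (a b : ZMod 5) : ℕ := lgL.getD (a.val + 5 * b.val) 0

/-- the logarithm -/
def lg (t : K25) : ℕ := lgab t.re t.im

/-- the generator -/
def om : K25 := ⟨0, 1⟩

/-- the powers of the generator -/
def pwp : ℕ → ZMod 5 × ZMod 5
  | 0 => (1, 0)
  | k + 1 => (3 * (pwp k).2, (pwp k).1 + (pwp k).2)

theorem om_pow (k : ℕ) : om ^ k = ⟨(pwp k).1, (pwp k).2⟩ := by
  induction k with
  | zero => rfl
  | succ k ih =>
    rw [pow_succ', ih]
    unfold om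
    ext
    · simp [pwp]
    · simp [pwp]

theorem chk_pw : ∀ a b : ZMod 5, a ≠ 0 ∨ b ≠ 0 → pwp (lgab a b) = (a, b) := by decide +kernel

theorem om_lg {t : K25} (ht : t ≠ 0) : om ^ lg t = t := by
  have h1 : t.re ≠ 0 ∨ t.im ≠ 0 := by
    by_contra h
    rw [not_or, not_not, not_not] at h
    exact ht (QuadraticAlgebra.ext h.1 h.2)
  rw [om_pow, lg, chk_pw _ _ h1]

theorem chk_mul : ∀ a b c d : ZMod 5, a ≠ 0 ∨ b ≠ 0 → c ≠ 0 ∨ d ≠ 0 →
    (lgab a b + lgab c d) % 24 = lgab (a * c + 3 * (b * d)) (a * d + b * c + b * d) := by decide +kernel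

theorem ne_iff {t : K25} : t ≠ 0 ↔ t.re ≠ 0 ∨ t.im ≠ 0 := by
  constructor
  · intro ht
    by_contra h
    rw [not_or, not_not, not_not] at h
    exact ht (QuadraticAlgebra.ext h.1 h.2)
  · rintro h rfl
    rcases h with h | h <;> exact h rfl

theorem lg_mul {s t : K25} (hs : s ≠ 0) (ht : t ≠ 0) : lg (s * t) = (lg s + lg t) % 24 := by
  have h := chk_mul _ _ _ _ (ne_iff.1 hs) (ne_iff.1 ht)
  have e1 : (s * t).re = s.re * t.re + 3 * (s.im * t.im) := by
    rw [QuadraticAlgebra.re_mul]; ring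
  have e2 : (s * t).im = s.re * t.im + s.im * t.re + s.im * t.im := by
    rw [QuadraticAlgebra.im_mul]; ring
  unfold lg
  rw [h, e1, e2]

/-- the word of `x(a + b ω)` -/
def xw (a b : ZMod 5) : List ℕ := List.replicate a.val 0 ++ List.replicate b.val 1

/-- `x(t)` -/
def xe (t : K25) : GL I12 (ZMod 3) := gx ^ t.re.val * gz ^ t.im.val

/-- `h(t)` -/
def he (t : K25) : GL I12 (ZMod 3) := gh ^ lg t

theorem xw_prod (a b : ZMod 5) : ((xw a b).map Lt).prod = xe ⟨a, b⟩ := by
  unfold xw xe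
  rw [List.map_append, List.prod_append, List.map_replicate, List.map_replicate, List.prod_replicate,
    List.prod_replicate]
  rfl

theorem chk_a : (eqB N1 1 [0, 1] [1, 0] && eqB N1 1 [0, 0, 0, 0, 0] [] && eqB N1 1 [1, 1, 1, 1, 1] [] &&
    eqB N1 1 [3, 2] [4, 3] && eqB N1 1 (List.replicate 24 2) [] && eqB N1 1 [3, 3] (List.replicate 12 2)) = true := by
  decide +kernel

theorem chk_conj : ∀ a b : ZMod 5, eqB N1 1 (2 :: xw a b) (xw (3 * a + 3 * b) (a + 4 * b) ++ [2]) = true := by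
  decide +kernel

/-- the coordinates of `-t⁻¹` -/
def mre (a b : ZMod 5) : ZMod 5 := -(a + b) * (a * a + a * b + 2 * b * b) ^ 3

/-- the coordinates of `-t⁻¹` -/
def mim (a b : ZMod 5) : ZMod 5 := b * (a * a + a * b + 2 * b * b) ^ 3

theorem chk_m : ∀ a b : ZMod 5, a ≠ 0 ∨ b ≠ 0 → a * mre a b + 3 * (b * mim a b) = -1 ∧
    a * mim a b + b * mre a b + b * mim a b = 0 := by decide +kernel

theorem m_eq {t : K25} (ht : t ≠ 0) : -t⁻¹ = ⟨mre t.re t.im, mim t.re t.im⟩ := by
  have h := chk_m _ _ (ne_iff.1 ht)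
  have h1 : t * ⟨mre t.re t.im, mim t.re t.im⟩ = (-1 : K25) := by
    ext
    · rw [QuadraticAlgebra.re_mul]
      refine Eq.trans ?_ (h.1.trans ?_)
      · ring
      · rfl
    · rw [QuadraticAlgebra.im_mul]
      refine Eq.trans ?_ (h.2.trans ?_)
      · ring
      · rfl
  rw [neg_eq_iff_eq_neg]
  apply inv_eq_of_mul_eq_one_right
  rw [mul_neg, h1, neg_neg]

theorem chk_wx : ∀ a b : ZMod 5, a ≠ 0 ∨ b ≠ 0 → eqB N1 1 (3 :: xw a b ++ [3])
    (xw (mre a b) (mim a b) ++ List.replicate (lgab (mre a b) (mim a b)) 2 ++ [3] ++ xw (mre a b) (mim a b)) = true := by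
  decide +kernel

/-! ### the relations -/

theorem parse_a : gx * gz = gz * gx ∧ gx ^ 5 = 1 ∧ gz ^ 5 = 1 ∧ gw * gh = gh⁻¹ * gw ∧ gh ^ 24 = 1 ∧ gw * gw = gh ^ 12 := by
  have h := chk_a
  simp only [Bool.and_eq_true] at h
  obtain ⟨⟨⟨⟨⟨h1, h2⟩, h3⟩, h4⟩, h5⟩, h6⟩ := h
  refine ⟨?_, ?_, ?_, ?_, ?_, ?_⟩
  · have := eqL h1
    simpa [Lt] using this
  · have := eqL h2
    simpa [Lt, pow_succ, mul_assoc] using this
  · have := eqL h3
    simpa [Lt, pow_succ, mul_assoc] using this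
  · have := eqL h4
    simpa [Lt] using this
  · have := eqL h5
    rw [List.map_replicate, List.prod_replicate] at this
    exact this
  · have := eqL h6
    rw [List.map_replicate, List.prod_replicate] at this
    simpa [Lt] using this

theorem pow_mod' {M : Type*} [Monoid M] {g : M} {n : ℕ} (h : g ^ n = 1) (k : ℕ) : g ^ (k % n) = g ^ k := by
  conv_rhs => rw [← Nat.mod_add_div k n, pow_add, pow_mul, h, one_pow, mul_one]

theorem xe_add (s t : K25) : xe (s + t) = xe s * xe t := by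
  obtain ⟨h1, h2, h3, -⟩ := parse_a
  have hc : Commute gx gz := h1
  unfold xe
  rw [QuadraticAlgebra.re_add, QuadraticAlgebra.im_add, ZMod.val_add, ZMod.val_add, pow_mod' h2, pow_mod' h3, pow_add,
    pow_add, mul_assoc, mul_assoc, ← mul_assoc (gx ^ t.re.val), (hc.pow_pow t.re.val s.im.val).eq]
  simp only [mul_assoc]

theorem he_mul {a b : K25} (ha : a ≠ 0) (hb : b ≠ 0) : he (a * b) = he a * he b := by
  obtain ⟨-, -, -, -, h5, -⟩ := parse_a
  unfold he
  rw [lg_mul ha hb, pow_mod' h5, pow_add]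

theorem gh_xe (t : K25) : gh * xe t = xe (om ^ 2 * t) * gh := by
  have h := eqL (chk_conj t.re t.im)
  rw [List.map_cons, List.prod_cons, xw_prod, List.map_append, List.prod_append, xw_prod] at h
  have e : om ^ 2 * t = ⟨3 * t.re + 3 * t.im, t.re + 4 * t.im⟩ := by
    unfold om
    ext
    · simp only [sq, QuadraticAlgebra.re_mul, QuadraticAlgebra.im_mul]
      ring
    · simp only [sq, QuadraticAlgebra.re_mul, QuadraticAlgebra.im_mul]
      ring
  rw [e]
  simpa [Lt] using h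

theorem gh_pow_xe (k : ℕ) (t : K25) : gh ^ k * xe t = xe ((om ^ k) ^ 2 * t) * gh ^ k := by
  induction k generalizing t with
  | zero => simp
  | succ k ih =>
    rw [pow_succ, mul_assoc, gh_xe, ← mul_assoc, ih, mul_assoc]
    congr 2
    ring

theorem gw_gh_pow (k : ℕ) : gw * gh ^ k = (gh ^ k)⁻¹ * gw := by
  obtain ⟨-, -, -, h4, -, -⟩ := parse_a
  induction k with
  | zero => simp
  | succ k ih =>
    rw [pow_succ', ← mul_assoc, h4, mul_assoc, ih, ← mul_assoc, ← _root_.mul_inv_rev, ← pow_succ, ← pow_succ']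

theorem he_one : he 1 = 1 := by
  have h : lg 1 = 0 := by
    show lgab 1 0 = 0
    decide
  unfold he
  rw [h, pow_zero]

theorem he_inv {a : K25} (ha : a ≠ 0) : he a⁻¹ = (he a)⁻¹ := by
  rw [eq_inv_iff_mul_eq_one, ← he_mul (inv_ne_zero ha) ha, inv_mul_cancel₀ ha, he_one]

theorem he_neg_one : he (-1) = gh ^ 12 := by
  have h : lg (-1) = 12 := by
    show lgab (-1) (-0) = 12
    decide
  unfold he
  rw [h]

theorem rel : Rel xe he gw where
  add := xe_add
  mul := fun a b ha hb => he_mul ha hb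
  conj := fun a t ha => by
    have h := gh_pow_xe (lg a) t
    rw [om_lg ha] at h
    exact h
  wh := fun a ha => by
    rw [he_inv ha]
    exact gw_gh_pow (lg a)
  ww := by
    rw [he_neg_one]
    exact parse_a.2.2.2.2.2
  wx := fun t ht => by
    have h := eqL (chk_wx _ _ (ne_iff.1 ht))
    simp only [List.map_append, List.prod_append, List.map_cons, List.prod_cons, List.map_nil, List.prod_nil, mul_one,
      xw_prod, List.map_replicate, List.prod_replicate] at h
    rw [m_eq ht]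
    simpa [Lt, he, lg, mul_assoc] using h

/-- the homomorphism -/
noncomputable def rep : SpecialLinearGroup (Fin 2) K25 →* GL I12 (ZMod 3) := hom rel

end Cfsg.Agent.H1.K3
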